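import Groth.Agent.Lib.SemiAbDesc2.Basic
import Groth.Agent.Lib.Chev24.SemiAb
import Groth.Agent.S7982

/-!
# Semi-abelian varieties over any field: quotients and extensions
-/

set_option autoImplicit false
set_option linter.all false
set_option backward.isDefEq.respectTransparency false
set_option maxHeartbeats 1000000

universe u

open CategoryTheory CategoryTheory.Limits MonoidalCategory CartesianMonoidalCategory MonObj GrpObj
open AlgebraicGeometry

namespace GrothLib.SemiAbDesc2

variable {k : Type u} [Field k]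

/-- An extension of an abelian variety by a torus, over any field. -/
def SA (G : Over (Spec (CommRingCat.of k))) [GrpObj G] : Prop :=
  ∃ (T : Over (Spec (CommRingCat.of k))) (_ : GrpObj T) (i : T ⟶ G) (A : Over (Spec (CommRingCat.of k))) (_ : GrpObj A)
    (q : G ⟶ A), IsMonHom i ∧ IsClosedImmersion i.left ∧ Red.IsTorus T ∧ IsMonHom q ∧ Surjective q.left ∧ Flat q.left ∧
      AlgGrp.IsKernel i q ∧ IsProper A.hom ∧ Smooth A.hom ∧ ConnectedSpace ↥A.left

local notation "φ" => Spec.map (CommRingCat.ofHom (algebraMap k (AlgebraicClosure k)))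

theorem isIntegralHom_algClosure : IsIntegralHom φ := by
  rw [IsIntegralHom.SpecMap_iff]
  exact Algebra.IsIntegral.isIntegral

/-- Semi-abelian varieties are smooth and connected. -/
theorem SA.smooth_connected {G : Over (Spec (CommRingCat.of k))} [GrpObj G] [LocallyOfFiniteType G.hom]
    [QuasiCompact G.hom] (h : SA G) : Smooth G.hom ∧ ConnectedSpace G.left := by
  obtain ⟨T, _, i, A, _, q, hi, hic, hT, hq, hqs, hqf, hker, hAp, hAs, hAc⟩ := h
  haveI := hi; haveI := hic; haveI := hq; haveI := hqs; haveI := hqf; haveI := hAp; haveI := hAs; haveI := hAc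
  haveI : LocallyOfFiniteType T.hom := by rw [← Over.w i]; infer_instance
  haveI : QuasiCompact T.hom := by rw [← Over.w i]; infer_instance
  obtain ⟨h1, h2⟩ := Rigidity.smooth_connected_of_isTorus T hT
  obtain ⟨-, hs, hc⟩ := Groth.Agent.S7982.result k T G A i q hker
  exact ⟨hs h1 inferInstance, hc h2 inferInstance⟩

/-- Semi-abelian varieties stay semi-abelian over the algebraic closure. -/
theorem SA.bc {G : Over (Spec (CommRingCat.of k))} [GrpObj G] (h : SA G) : Chev24.IsSemiAb (Red.bc φ G) := by
  obtain ⟨T, _, i, A, _, q, hi, hic, hT, hq, hqs, hqf, hker, hAp, hAs, hAc⟩ := h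
  haveI := hi; haveI := hic; haveI := hq; haveI := hqs; haveI := hqf; haveI := hAp; haveI := hAs; haveI := hAc
  exact ⟨Red.bc φ T, inferInstance, (Over.pullback φ).map i, Red.bc φ A, inferInstance, (Over.pullback φ).map q,
    inferInstance, MorphismProperty.overPullbackMap (P := @IsClosedImmersion) φ i (inferInstanceAs (IsClosedImmersion i.left)),
    Flag27.isTorus_bc_field φ hT, inferInstance,
    MorphismProperty.overPullbackMap (P := @Surjective) φ q (inferInstanceAs (Surjective q.left)),
    MorphismProperty.overPullbackMap (P := @Flat) φ q (inferInstanceAs (Flat q.left)),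
    Chev24.isKernel_bc φ i q hker, inferInstanceAs (IsProper (pullback.snd A.hom φ)), Flag27.smooth_bc φ A,
    Flag27.connectedSpace_bc φ A⟩

/-- A group semi-abelian over the algebraic closure is semi-abelian. -/
theorem SA.of_bc {G : Over (Spec (CommRingCat.of k))} [GrpObj G] [LocallyOfFiniteType G.hom] [QuasiCompact G.hom]
    (h : Chev24.IsSemiAb (Red.bc φ G)) : SA G := by
  obtain ⟨T, _, i, A, _, q, hi, hic, hT, hq, hqs, hqf, hker, hAp, hAs, hAc⟩ := h
  haveI := hi; haveI := hic; haveI := hq; haveI := hqs; haveI := hqf; haveI := hAp; haveI := hAs; haveI := hAc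
  haveI := isIntegralHom_algClosure (k := k)
  exact semiAbelian_descend φ G T i hT A q hker

/-- The trivial group is semi-abelian. -/
theorem SA.unit : SA (𝟙_ (Over (Spec (CommRingCat.of k)))) := by
  let U := 𝟙_ (Over (Spec (CommRingCat.of k)))
  haveI : IsIso U.hom := inferInstanceAs (IsIso (𝟙 (Spec (CommRingCat.of k))))
  haveI : ConnectedSpace U.left := by
    haveI : IrreducibleSpace ↥(Spec (CommRingCat.of k)) := inferInstanceAs (IrreducibleSpace (PrimeSpectrum k))
    exact inferInstanceAs (ConnectedSpace ↥(Spec (CommRingCat.of k)))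
  haveI : IsIso (Red.bc φ U).hom := inferInstanceAs (IsIso (pullback.snd U.hom φ))
  haveI : ConnectedSpace (Red.bc φ U).left := Flag27.connectedSpace_bc φ U
  refine SA.of_bc (Chev24.NoUnipHom.isSemiAb fun V _ v _ _ _ _ => ?_)
  exact Over.OverMorphism.ext ((cancel_mono (Red.bc φ U).hom).1 (by rw [Over.w, Over.w]))

/-- A quotient of a semi-abelian variety is semi-abelian. -/
theorem SA.quotient {E Q : Over (Spec (CommRingCat.of k))} [GrpObj E] [GrpObj Q] [LocallyOfFiniteType E.hom]
    [QuasiCompact E.hom] [LocallyOfFiniteType Q.hom] [QuasiCompact Q.hom] (q : E ⟶ Q) [IsMonHom q] [Flat q.left]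
    [Surjective q.left] (h : SA E) : SA Q := by
  obtain ⟨hs, hc⟩ := h.smooth_connected
  haveI := hs; haveI := hc
  haveI : IsSeparated Q.hom := GrpSchField.isSeparated Q
  haveI : IsLocallyNoetherian Q.left := LocallyOfFiniteType.isLocallyNoetherian Q.hom
  haveI : LocallyOfFiniteType q.left := by
    haveI : LocallyOfFiniteType (q.left ≫ Q.hom) := by rw [Over.w q]; infer_instance
    exact locallyOfFiniteType_of_comp q.left Q.hom
  haveI : Smooth Q.hom := FppfSource.fppfSourceDescends_smooth q.left Q.hom ‹_› (inferInstance : LocallyOfFinitePresentation q.left) ‹_›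
    (by rw [Over.w q]; infer_instance)
  haveI : ConnectedSpace Q.left := q.left.surjective.connectedSpace q.left.continuous
  haveI : Smooth (Red.bc φ E).hom := Flag27.smooth_bc φ E
  haveI : Smooth (Red.bc φ Q).hom := Flag27.smooth_bc φ Q
  haveI : QuasiCompact (Red.bc φ E).hom := inferInstanceAs (QuasiCompact (pullback.snd E.hom φ))
  haveI : QuasiCompact (Red.bc φ Q).hom := inferInstanceAs (QuasiCompact (pullback.snd Q.hom φ))
  haveI : ConnectedSpace (Red.bc φ Q).left := Flag27.connectedSpace_bc φ Q
  haveI : Surjective ((Over.pullback φ).map q).left :=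
    MorphismProperty.overPullbackMap (P := @Surjective) φ q (inferInstanceAs (Surjective q.left))
  haveI : Flat ((Over.pullback φ).map q).left :=
    MorphismProperty.overPullbackMap (P := @Flat) φ q (inferInstanceAs (Flat q.left))
  exact SA.of_bc (Chev24.IsSemiAb.quotient h.bc ((Over.pullback φ).map q))

/-- An extension of semi-abelian varieties is semi-abelian. -/
theorem SA.extension {N E Q : Over (Spec (CommRingCat.of k))} [GrpObj N] [GrpObj E] [GrpObj Q]
    [LocallyOfFiniteType N.hom] [QuasiCompact N.hom] [LocallyOfFiniteType E.hom] [QuasiCompact E.hom]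
    [LocallyOfFiniteType Q.hom] [QuasiCompact Q.hom]
    (i : N ⟶ E) (q : E ⟶ Q) [IsMonHom i] [IsMonHom q] [Flat q.left] [Surjective q.left]
    (hker : AlgGrp.IsKernel i q) (hN : SA N) (hQ : SA Q) : SA E := by
  obtain ⟨-, hs, hc⟩ := Groth.Agent.S7982.result k N E Q i q hker
  haveI := hs hN.smooth_connected.1 hQ.smooth_connected.1
  haveI := hc hN.smooth_connected.2 hQ.smooth_connected.2
  haveI : Mono i := GrpDeligne.mono_of_isKernel hker
  haveI : Mono ((Over.pullback φ).map i) := GrpDeligne.mono_of_isKernel (Chev24.isKernel_bc φ i q hker)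
  haveI : Smooth (Red.bc φ E).hom := Flag27.smooth_bc φ E
  haveI : QuasiCompact (Red.bc φ E).hom := inferInstanceAs (QuasiCompact (pullback.snd E.hom φ))
  haveI : ConnectedSpace (Red.bc φ E).left := Flag27.connectedSpace_bc φ E
  exact SA.of_bc ((Chev24.NoUnipHom.extension ((Over.pullback φ).map i) ((Over.pullback φ).map q)
    (Chev24.isKernel_bc φ i q hker) hN.bc.noUnipHom hQ.bc.noUnipHom).isSemiAb)

end GrothLib.SemiAbDesc2
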