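import Groth.Agent.Lib.SubDesc14.Group
import Groth.Agent.Lib.DiagGrp.SubgroupEq
import Groth.Agent.Lib.DiagGrp.BaseChange
import Groth.Agent.Lib.Rigidity.Smooth.Torus
import Groth.Agent.Lib.Rigidity.SemiAbelian
import Groth.Agent.Lib.EssFree.Subgroup
import Groth.Agent.Lib.UnipFix19.Reductive
import Groth.Agent.Lib.Chev24.Divisible
import Groth.Agent.Lib.AffPart16.Basic
import Groth.Agent.Lib.GrpDeligne.Factor

/-!
# Descent of semi-abelian varieties along algebraic field extensions

A torus `T` in the base change `G_K` with proper quotient is stable under the descent datum of `G_K`: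
over `K ⊗ K` a homomorphism from a torus to a proper group is trivial. Hence `T` descends.
-/

set_option autoImplicit false
set_option linter.all false
set_option backward.isDefEq.respectTransparency false
set_option maxHeartbeats 1000000

universe u

open CategoryTheory CategoryTheory.Limits MonoidalCategory CartesianMonoidalCategory MonObj GrpObj
open AlgebraicGeometry

namespace GrothLib.SemiAbDesc2

open GrothLib.DiagGrp

/-- The comparison of iterated base changes is compatible with the projections. -/
theorem bcGrpComp_fst {S₁ S₂ S₃ : Scheme.{u}} (K : Over S₁) [GrpObj K]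
    (f : S₂ ⟶ S₁) (g : S₃ ⟶ S₂) (h : S₃ ⟶ S₁) (hh : h = g ≫ f) :
    ((Grp.forget _).mapIso (bcGrpComp K f g h hh)).hom.left ≫ pullback.fst _ _ ≫ pullback.fst K.hom f =
      pullback.fst K.hom h := by
  subst hh
  have e : ((Grp.forget _).mapIso (bcGrpComp K f g _ rfl)).hom = (Over.pullbackComp g f).hom.app K := by
    simp [bcGrpComp] <;> rfl
  rw [e]
  simp [Over.pullbackComp, conjugateEquiv, Adjunction.comp, Over.mapPullbackAdj, Over.mapComp]
  erw [Category.id_comp, Category.id_comp]

theorem bcGrpComp_inv_fst {S₁ S₂ S₃ : Scheme.{u}} (K : Over S₁) [GrpObj K]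
    (f : S₂ ⟶ S₁) (g : S₃ ⟶ S₂) (h : S₃ ⟶ S₁) (hh : h = g ≫ f) :
    ((Grp.forget _).mapIso (bcGrpComp K f g h hh)).inv.left ≫ pullback.fst K.hom h =
      pullback.fst _ _ ≫ pullback.fst K.hom f := by
  rw [← bcGrpComp_fst K f g h hh, ← Category.assoc, ← Over.comp_left, Iso.inv_hom_id]
  exact Category.id_comp _

/-- The kernel of a homomorphism onto a proper group, if it is a torus, is stable under the descent datum. -/
theorem stable {S S' : Scheme.{u}} (φ : S' ⟶ S) (G : Over S) [GrpObj G]
    (T : Over S') [GrpObj T] (i : T ⟶ Red.bc φ G) [IsMonHom i] (hT : Red.IsTorus T)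
    (A : Over S') [GrpObj A] [IsProper A.hom] (q : Red.bc φ G ⟶ A) [IsMonHom q] (hker : AlgGrp.IsKernel i q)
    (Z : Scheme.{u}) (a b : Z ⟶ (Red.bc φ G).left)
    (hab : a ≫ pullback.fst G.hom φ = b ≫ pullback.fst G.hom φ) (ha : ∃ z, z ≫ i.left = a) :
    ∃ z, z ≫ i.left = b := by
  obtain ⟨z, hz⟩ := ha
  let ga : Z ⟶ S' := a ≫ (Red.bc φ G).hom
  let gb : Z ⟶ S' := b ≫ (Red.bc φ G).hom
  let σ : Z ⟶ S := a ≫ pullback.fst G.hom φ ≫ G.hom
  have hga : σ = ga ≫ φ := by
    show a ≫ _ = (a ≫ pullback.snd G.hom φ) ≫ φ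
    rw [pullback.condition, Category.assoc]
  have hgb : σ = gb ≫ φ := by
    show a ≫ _ = (b ≫ pullback.snd G.hom φ) ≫ φ
    rw [reassoc_of% hab, pullback.condition, Category.assoc]
  letI : GrpObj (Red.bc ga T) := inferInstance
  let ea := bcGrpComp G φ ga σ hga
  let eb := bcGrpComp G φ gb σ hgb
  let va : Red.bc σ G ≅ Red.bc ga (Red.bc φ G) := (Grp.forget _).mapIso ea
  let vb : Red.bc σ G ≅ Red.bc gb (Red.bc φ G) := (Grp.forget _).mapIso eb
  haveI : IsMonHom va.inv := ea.inv.hom.isMonHom_hom
  haveI : IsMonHom vb.hom := eb.hom.hom.isMonHom_hom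
  haveI : IsMonHom ((Over.pullback ga).map i) := inferInstance
  haveI : IsMonHom ((Over.pullback gb).map q) := inferInstance
  haveI : IsProper (Red.bc gb A).hom := inferInstanceAs (IsProper (pullback.snd A.hom gb))
  let u : Red.bc ga T ⟶ Red.bc gb A := (Over.pullback ga).map i ≫ va.inv ≫ vb.hom ≫ (Over.pullback gb).map q
  have hu : u = 1 := Rigidity.hom_eq_one_of_charts _ _
    ((Rigidity.hasChartsFpqc_freeM_of_isTorus hT).baseChange ga) u
  have hzT : z ≫ T.hom = ga := by
    show z ≫ T.hom = a ≫ (Red.bc φ G).hom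
    rw [← hz, Category.assoc, Over.w i]
  let s : Over.mk (𝟙 Z) ⟶ Red.bc ga T :=
    Over.homMk (pullback.lift z (𝟙 Z) (hzT.trans (Category.id_comp ga).symm)) (pullback.lift_snd _ _ _)
  let b' : (Over.map gb).obj (Over.mk (𝟙 Z)) ⟶ Red.bc φ G := Over.homMk b (Category.id_comp gb).symm
  have h1 : s ≫ (Over.pullback ga).map i ≫ va.inv ≫ vb.hom = bcPoint gb (Red.bc φ G) _ b' := by
    refine Over.OverMorphism.ext (pullback.hom_ext ?_ ?_)
    · rw [SubDesc14.bcPoint_left_fst]
      show _ = b
      refine pullback.hom_ext ?_ ?_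
      · simp only [Over.comp_left, Category.assoc, vb, va, eb, ea]
        rw [bcGrpComp_fst, bcGrpComp_inv_fst]
        simp only [Over.pullback_map_left, s, Over.homMk_left]
        erw [pullback.lift_fst_assoc]
        erw [Category.assoc]
        erw [pullback.lift_fst_assoc, reassoc_of% hz]
        exact hab
      · simp only [Category.assoc]
        have hc : pullback.fst (Red.bc φ G).hom gb ≫ (Red.bc φ G).hom = pullback.snd (Red.bc φ G).hom gb ≫ gb :=
          pullback.condition
        refine (congrArg ((s ≫ (Over.pullback ga).map i ≫ va.inv ≫ vb.hom).left ≫ ·) hc).trans ?_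
        rw [← Category.assoc]
        exact (congrArg (· ≫ gb) (Over.w (s ≫ (Over.pullback ga).map i ≫ va.inv ≫ vb.hom))).trans (Category.id_comp gb)
    · exact (Over.w (s ≫ (Over.pullback ga).map i ≫ va.inv ≫ vb.hom)).trans
        (Over.w (bcPoint gb (Red.bc φ G) _ b')).symm
  have h2 : bcPointMulEquiv gb A _ (b' ≫ q) = 1 := by
    show bcPoint gb A _ (b' ≫ q) = 1
    rw [bcPoint_comp_right, ← h1, Category.assoc, Category.assoc, Category.assoc]
    show s ≫ u = 1
    rw [hu, MonObj.comp_one]
  obtain ⟨w, hw⟩ := GrpDeligne.exists_lift_ker hker b'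
    ((bcPointMulEquiv gb A _).injective (h2.trans (map_one _).symm))
  exact ⟨w.left, congrArg CommaMorphism.left hw⟩

/-- A quasi-compact surjection is a covering in the sense of fpqc descent. -/
theorem isCover_of_quasiCompact {X Y : Scheme.{u}} (f : X ⟶ Y) [QuasiCompact f] [Surjective f] :
    SubDesc14.IsCover f := fun V hV =>
  ⟨f ⁻¹ᵁ V, QuasiCompact.isCompact_preimage _ V.2 hV.isCompact, Set.image_preimage_eq _ f.surjective⟩

variable {k K : Type u} [Field k] [Field K]

/-- A group becoming semi-abelian over an algebraic extension is semi-abelian. -/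
theorem semiAbelian_descend (φ : Spec (CommRingCat.of K) ⟶ Spec (CommRingCat.of k)) [IsIntegralHom φ]
    (G : Over (Spec (CommRingCat.of k))) [GrpObj G] [LocallyOfFiniteType G.hom] [QuasiCompact G.hom]
    (T : Over (Spec (CommRingCat.of K))) [GrpObj T] (i : T ⟶ Red.bc φ G) [IsMonHom i] [IsClosedImmersion i.left]
    (hT : Red.IsTorus T)
    (A : Over (Spec (CommRingCat.of K))) [GrpObj A] [IsProper A.hom] [Smooth A.hom] [ConnectedSpace ↥A.left]
    (q : Red.bc φ G ⟶ A) [IsMonHom q] [Surjective q.left] [Flat q.left] (hker : AlgGrp.IsKernel i q) :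
    ∃ (T₀ : Over (Spec (CommRingCat.of k))) (_ : GrpObj T₀) (j : T₀ ⟶ G) (P : Over (Spec (CommRingCat.of k)))
      (_ : GrpObj P) (c : G ⟶ P),
        IsMonHom j ∧ IsClosedImmersion j.left ∧ Red.IsTorus T₀ ∧ IsMonHom c ∧ Surjective c.left ∧ Flat c.left ∧
        AlgGrp.IsKernel j c ∧ IsProper P.hom ∧ Smooth P.hom ∧ ConnectedSpace ↥P.left := by
  classical
  haveI : Flat φ := Flag27.flat_to_field φ
  haveI : Surjective φ := Flag27.surjective_to_field φ
  haveI : QuasiCompact φ := inferInstance
  haveI : IsSeparated G.hom := GrpSchField.isSeparated G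
  haveI : LocallyOfFiniteType (Red.bc φ G).hom := inferInstanceAs (LocallyOfFiniteType (pullback.snd G.hom φ))
  haveI : QuasiCompact (Red.bc φ G).hom := inferInstanceAs (QuasiCompact (pullback.snd G.hom φ))
  haveI := Rigidity.geometricallyIntegral_of_extension i q hT hker
  haveI : IsIntegral (Red.bc φ G).left := GeometricallyIntegral.isIntegral_of_subsingleton (Red.bc φ G).hom
  -- the group is smooth, connected and commutative
  haveI : Smooth (Red.bc φ G).hom := by
    haveI : LocallyOfFiniteType T.hom := by rw [← Over.w i]; infer_instance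
    haveI : QuasiCompact T.hom := by rw [← Over.w i]; infer_instance
    obtain ⟨h1, -⟩ := Rigidity.smooth_connected_of_isTorus T hT
    obtain ⟨-, hs, -⟩ := Groth.Agent.S7982.result K T (Red.bc φ G) A i q hker
    exact hs h1 inferInstance
  haveI : Smooth G.hom := MorphismProperty.of_isPullback_of_descendsAlong (P := @Smooth)
    (Q := @Surjective ⊓ @Flat ⊓ @QuasiCompact) (IsPullback.of_hasPullback G.hom φ).flip
    ⟨⟨inferInstance, inferInstance⟩, inferInstance⟩ (inferInstanceAs (Smooth (Red.bc φ G).hom))
  let p : (Red.bc φ G).left ⟶ G.left := pullback.fst G.hom φ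
  haveI : Flat p := inferInstanceAs (Flat (pullback.fst G.hom φ))
  haveI : Surjective p := inferInstanceAs (Surjective (pullback.fst G.hom φ))
  haveI : IsIntegralHom p := inferInstanceAs (IsIntegralHom (pullback.fst G.hom φ))
  haveI : ConnectedSpace G.left := p.surjective.connectedSpace p.continuous
  have hcomm : IsCommMonObj G := by
    have h : snd G G * fst G G = fst G G * snd G G := by
      apply (Over.pullback φ).map_injective
      rw [Functor.map_mul, Functor.map_mul]
      exact Rigidity.comm_of_extension i q hT hker _ _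
    refine ⟨?_⟩
    have hμ : μ[G] = fst G G * snd G G := by rw [Hom.mul_def, lift_fst_snd, Category.id_comp]
    rw [hμ, MonObj.comp_mul, braiding_hom_fst, braiding_hom_snd, h]
  haveI := hcomm
  -- descend the torus
  haveI : IsProper A.hom := ‹_›
  obtain ⟨Z, n, hn, hZ⟩ := SubDesc14.exists_descended p (isCover_of_quasiCompact p) i.left
    (fun W a b hab ha => stable φ G T i hT A q hker W a b hab ha)
  haveI := hn
  have hrange : Set.range n = p '' Set.range i.left := by
    refine Set.Subset.antisymm ?_ ?_
    · rintro _ ⟨x, rfl⟩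
      obtain ⟨z, hz⟩ := (hZ _ (pullback.snd n p)).1 ⟨pullback.fst n p, pullback.condition⟩
      obtain ⟨y, hy⟩ := p.surjective (n x)
      obtain ⟨w, hw₁, hw₂⟩ := Scheme.Pullback.exists_preimage_pullback (f := n) (g := p) x y hy.symm
      exact ⟨y, ⟨z w, by rw [← Scheme.Hom.comp_apply, hz, hw₂]⟩, hy⟩
    · rintro _ ⟨_, ⟨t, rfl⟩, rfl⟩
      obtain ⟨z, hz⟩ := (hZ _ i.left).2 ⟨𝟙 _, Category.id_comp _⟩
      exact ⟨z t, by rw [← Scheme.Hom.comp_apply, hz]; rfl⟩
  haveI : IsClosedImmersion n := IsClosedImmersion.of_isPreimmersion n (by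
    rw [hrange]
    exact p.isClosedMap _ i.left.isClosedEmbedding.isClosed_range)
  let T₀ : Over (Spec (CommRingCat.of k)) := Over.mk (n ≫ G.hom)
  let j : T₀ ⟶ G := Over.homMk n rfl
  haveI : IsClosedImmersion j.left := inferInstanceAs (IsClosedImmersion n)
  haveI : Mono j := Over.mono_of_mono_left j
  haveI : Mono i := Over.mono_of_mono_left i
  have hcovφ : SubDesc14.IsCover φ := isCover_of_quasiCompact φ
  -- a point of `G` lies in `T₀` as soon as its base change lies in `T`
  have key : ∀ {W : Over (Spec (CommRingCat.of k))} (x : W ⟶ G)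
      (w : Red.bc φ W ⟶ T), w ≫ i = (Over.pullback φ).map x → ∃ z : W ⟶ T₀, z ≫ j = x := by
    intro W x w hw
    obtain ⟨z, hz⟩ := (hZ _ ((Over.pullback φ).map x).left).2 ⟨w.left, congrArg CommaMorphism.left hw⟩
    have hp : ((Over.pullback φ).map x).left ≫ p = pullback.fst W.hom φ ≫ x.left := by
      simp only [Over.pullback_map_left, p]; exact pullback.lift_fst _ _ _
    exact SubDesc14.exists_factor φ hcovφ j x (Over.homMk z (by
      show z ≫ n ≫ G.hom = pullback.snd W.hom φ ≫ φ
      rw [reassoc_of% hz, reassoc_of% hp, Over.w x, pullback.condition]))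
      (Over.OverMorphism.ext (hz.trans hp))
  -- the base change of `T₀` is `T`
  obtain ⟨l, hl⟩ : ∃ l : Red.bc φ T₀ ⟶ T, l ≫ i = (Over.pullback φ).map j := by
    have hp : ((Over.pullback φ).map j).left ≫ p = pullback.fst T₀.hom φ ≫ n := by
      simp only [Over.pullback_map_left, p]; exact pullback.lift_fst _ _ _
    obtain ⟨z, hz⟩ := (hZ _ ((Over.pullback φ).map j).left).1 ⟨pullback.fst T₀.hom φ, hp.symm⟩
    exact ⟨Over.homMk z (by rw [← Over.w i, reassoc_of% hz, Over.w]), Over.OverMorphism.ext hz⟩
  obtain ⟨_, hjm⟩ := EssFree.exists_grpObj_of_mono j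
    (fun W => key 1 1 (by rw [MonObj.one_comp, Functor.map_one]))
    (fun W a b => key _ (((Over.pullback φ).map a ≫ l) * ((Over.pullback φ).map b ≫ l)) (by
      rw [MonObj.mul_comp, Category.assoc, Category.assoc, hl, Functor.map_mul, Functor.map_comp, Functor.map_comp]))
    (fun W a => key _ (((Over.pullback φ).map a ≫ l)⁻¹) (by
      rw [GrpObj.inv_comp, Category.assoc, hl, ← Functor.map_comp]
      exact (map_inv (Functor.homMonoidHom (Over.pullback φ)) (a ≫ j)).symm))
  haveI := hjm
  haveI : IsClosedImmersion ((Over.pullback φ).map j).left :=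
    MorphismProperty.overPullbackMap (P := @IsClosedImmersion) φ j (inferInstanceAs (IsClosedImmersion j.left))
  haveI : Mono ((Over.pullback φ).map j) := Over.mono_of_mono_left _
  have hT₀ : Red.IsTorus T₀ := by
    obtain ⟨w, hw⟩ : ∃ w : T ⟶ Red.bc φ T₀, w ≫ (Over.pullback φ).map j = i := by
      obtain ⟨z, hz⟩ := (hZ _ i.left).2 ⟨𝟙 _, Category.id_comp _⟩
      refine ⟨Over.homMk (pullback.lift z T.hom ?_) (pullback.lift_snd _ _ _), Over.OverMorphism.ext ?_⟩
      · show z ≫ n ≫ G.hom = _
        rw [reassoc_of% hz]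
        show i.left ≫ pullback.fst G.hom φ ≫ G.hom = _
        rw [pullback.condition, ← Category.assoc]
        exact congrArg (· ≫ φ) (Over.w i)
      · simp only [Over.comp_left, Over.homMk_left, Over.pullback_map_left]
        refine pullback.hom_ext ?_ ?_
        · erw [Category.assoc, pullback.lift_fst, pullback.lift_fst_assoc]
          exact hz
        · erw [Category.assoc, pullback.lift_snd, pullback.lift_snd]
          exact (Over.w i).symm
    let e : T ≅ Red.bc φ T₀ :=
      { hom := w
        inv := l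
        hom_inv_id := by rw [← cancel_mono i, Category.assoc, hl, hw, Category.id_comp]
        inv_hom_id := by rw [← cancel_mono ((Over.pullback φ).map j), Category.assoc, hw, hl, Category.id_comp] }
    haveI : IsMonHom e.hom :=
      GrpSchField.isMonHom_of_mul w (by
        rw [← cancel_mono ((Over.pullback φ).map j), Category.assoc, hw, Category.assoc, IsMonHom.mul_hom,
          IsMonHom.mul_hom, tensorHom_comp_tensorHom_assoc, hw])
    exact UnipFix19.isTorus_of_bc_field φ (Flag27.isTorus_of_grpIso (Grp.mkIso' e) hT)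
  -- the quotient
  haveI : LocallyOfFiniteType T₀.hom := inferInstanceAs (LocallyOfFiniteType (n ≫ G.hom))
  obtain ⟨P, _, c, hc, hPs, hPq, hcf, hcs, -, hcker⟩ :=
    Chev24.exists_quot j (fun W x y => ⟨y, by rw [mul_comm x, mul_inv_cancel_right]⟩)
  haveI := hc; haveI := hPs; haveI := hPq; haveI := hcf; haveI := hcs
  haveI : IsSeparated P.hom := GrpSchField.isSeparated P
  haveI : QuasiCompact q.left := by
    haveI : IsSeparated A.hom := inferInstance
    haveI : QuasiCompact (q.left ≫ A.hom) := by rw [Over.w q]; infer_instance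
    exact QuasiCompact.of_comp q.left A.hom
  haveI : IsProper P.hom := by
    have hkill : i ≫ (Over.pullback φ).map c = 1 := by
      obtain ⟨z, hz⟩ := (hZ _ i.left).2 ⟨𝟙 _, Category.id_comp _⟩
      have h0 : j ≫ c = 1 := GrpDeligne.ker_comp_eq_one hcker
      let b : (Over.map φ).obj T ⟶ T₀ := Over.homMk z (by
        show z ≫ n ≫ G.hom = T.hom ≫ φ
        rw [reassoc_of% hz]
        show i.left ≫ pullback.fst G.hom φ ≫ G.hom = _
        rw [pullback.condition, ← Category.assoc]
        exact congrArg (· ≫ φ) (Over.w i))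
      have hbi : bcPoint φ G T (b ≫ j) = i := by
        refine Over.OverMorphism.ext (pullback.hom_ext ?_ ?_)
        · rw [SubDesc14.bcPoint_left_fst]
          exact hz
        · exact (Over.w (bcPoint φ G T (b ≫ j))).trans (Over.w i).symm
      rw [← hbi, ← bcPoint_comp_right, Category.assoc, h0, MonObj.comp_one]
      exact map_one (bcPointMulEquiv φ P T)
    obtain ⟨c', -, hc'⟩ := GrpDeligne.exists_factor q i hker ((Over.pullback φ).map c) hkill
    haveI : Surjective ((Over.pullback φ).map c).left :=
      MorphismProperty.overPullbackMap (P := @Surjective) φ c (inferInstanceAs (Surjective c.left))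
    haveI : Surjective (q.left ≫ c'.left) := by rw [← Over.comp_left, hc']; infer_instance
    haveI : Surjective c'.left := Surjective.of_comp q.left c'.left
    let pP : (Red.bc φ P).left ⟶ P.left := pullback.fst P.hom φ
    haveI : Surjective pP := inferInstanceAs (Surjective (pullback.fst P.hom φ))
    haveI : Surjective (c'.left ≫ pP) := inferInstance
    haveI : UniversallyClosed ((c'.left ≫ pP) ≫ P.hom) := by
      have e : (c'.left ≫ pP) ≫ P.hom = A.hom ≫ φ := by
        show (c'.left ≫ pullback.fst P.hom φ) ≫ P.hom = _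
        rw [Category.assoc, pullback.condition, ← Category.assoc]
        exact congrArg (· ≫ φ) (Over.w c')
      rw [e]; infer_instance
    haveI := UniversallyClosed.of_comp_surjective (c'.left ≫ pP) P.hom
    exact { }
  exact ⟨T₀, inferInstance, j, P, inferInstance, c, hjm, inferInstance, hT₀, hc, hcs, hcf, hcker,
    inferInstance, hPs, c.left.surjective.connectedSpace c.left.continuous⟩

end GrothLib.SemiAbDesc2
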